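import Groth.Prelude.Def_EGA4b
import Mathlib.RingTheory.Flat.FaithfullyFlat.Algebra
import Mathlib.RingTheory.Flat.Localization
import Mathlib.RingTheory.IntegralClosure.IntegrallyClosed
import Mathlib.RingTheory.Localization.AtPrime.Extension
import Mathlib.RingTheory.RingHom.FaithfullyFlat
import Mathlib.RingTheory.RingHom.Flat
import Mathlib.LinearAlgebra.TensorProduct.Tower

/-!
# Descent of normality along faithfully flat ring maps (lead's library)

* `Groth.Agent.Lib.Lead.isIntegrallyClosed_of_faithfullyFlat` : if `S` is a faithfully flat `R`-algebra and `S` is an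
  integrally closed domain then so is `R`.
* `Groth.Agent.Lib.Lead.isNormalRing_of_faithfullyFlat` : `EGA4.IsNormalRing` descends along faithfully flat maps
  (Stacks 033G).
-/

set_option autoImplicit false
universe u

namespace Groth.Agent.Lib.Lead

theorem isDomain_of_faithfullyFlat (R S : Type*) [CommRing R] [CommRing S] [Algebra R S]
    [Module.FaithfullyFlat R S] [IsDomain S] : IsDomain R :=
  (FaithfulSMul.algebraMap_injective R S).isDomain (algebraMap R S)

theorem isIntegrallyClosed_of_faithfullyFlat (R S : Type*) [CommRing R] [CommRing S] [Algebra R S]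
    [Module.FaithfullyFlat R S] [IsDomain S] [IsIntegrallyClosed S] :
    IsDomain R ∧ IsIntegrallyClosed R := by
  have hinj : Function.Injective (algebraMap R S) := FaithfulSMul.algebraMap_injective R S
  have hR : IsDomain R := isDomain_of_faithfullyFlat R S
  refine ⟨hR, ?_⟩
  let K := FractionRing R
  let L := FractionRing S
  rw [isIntegrallyClosed_iff K]
  intro x hx
  -- the map K → L
  let φ : K →+* L := IsFractionRing.lift (g := (algebraMap S L).comp (algebraMap R S))
    ((IsFractionRing.injective S L).comp hinj)
  have hφ : ∀ r : R, φ (algebraMap R K r) = algebraMap S L (algebraMap R S r) := fun r => by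
    simp [φ, IsFractionRing.lift_algebraMap]
  obtain ⟨a, b, hb, rfl⟩ := IsFractionRing.div_surjective (A := R) x
  -- the image of x is integral over S
  have hint : IsIntegral S (φ (algebraMap R K a / algebraMap R K b)) :=
    IsIntegral.map_of_comp_eq (algebraMap R S) φ (RingHom.ext fun r => (hφ r).symm) hx
  obtain ⟨c, hc⟩ := IsIntegrallyClosed.algebraMap_eq_of_integral hint
  have hb0 : algebraMap R K b ≠ 0 := by
    simpa using nonZeroDivisors.ne_zero hb
  -- a = b * c in S
  have habc : algebraMap R S a = algebraMap R S b * c := by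
    apply IsFractionRing.injective S L
    rw [map_mul, hc, map_div₀, hφ, hφ]
    have : algebraMap S L (algebraMap R S b) ≠ 0 := by
      rw [← hφ]
      simpa using hb0
    rw [mul_comm, div_mul_cancel₀ _ this]
  have hmem : a ∈ (Ideal.span {b} : Ideal R) := by
    rw [← Ideal.comap_map_eq_self_of_faithfullyFlat (B := S) (Ideal.span {b}), Ideal.mem_comap,
      Ideal.map_span, Set.image_singleton, Ideal.mem_span_singleton]
    exact ⟨c, habc⟩
  obtain ⟨r, rfl⟩ := Ideal.mem_span_singleton.mp hmem
  refine ⟨r, ?_⟩
  rw [map_mul, mul_div_cancel_left₀ _ hb0]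

/-- `EGA4.IsNormalRing` descends along faithfully flat ring maps. -/
theorem isNormalRing_of_faithfullyFlat (R S : Type u) [CommRing R] [CommRing S] [Algebra R S]
    [Module.FaithfullyFlat R S] (h : EGA4.IsNormalRing S) : EGA4.IsNormalRing R := by
  intro q hq
  obtain ⟨Q, hQ, hlo⟩ := Ideal.exists_isPrime_liesOver_of_faithfullyFlat (B := S) q
  let := Localization.AtPrime.algebraOfLiesOver q Q
  have : Module.Flat (Localization.AtPrime q) (Localization.AtPrime Q) := inferInstance
  have : IsLocalHom (algebraMap (Localization.AtPrime q) (Localization.AtPrime Q)) :=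
    Localization.isLocalHom_localRingHom q Q (algebraMap R S) Ideal.LiesOver.over
  have : Module.FaithfullyFlat (Localization.AtPrime q) (Localization.AtPrime Q) :=
    Module.FaithfullyFlat.of_flat_of_isLocalHom
  obtain ⟨h1, h2⟩ := h Q
  exact isIntegrallyClosed_of_faithfullyFlat (Localization.AtPrime q) (Localization.AtPrime Q)

/-- Ring-hom version of `isNormalRing_of_faithfullyFlat`. -/
theorem isNormalRing_of_ringHom_faithfullyFlat {R S : Type u} [CommRing R] [CommRing S]
    (f : R →+* S) (hf : f.FaithfullyFlat) (h : EGA4.IsNormalRing S) : EGA4.IsNormalRing R := by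
  algebraize [f]
  exact isNormalRing_of_faithfullyFlat R S h

/-- `EGA4.IsNormalRing` is invariant under ring isomorphisms. -/
theorem isNormalRing_of_ringEquiv {R S : Type u} [CommRing R] [CommRing S]
    (e : R ≃+* S) (h : EGA4.IsNormalRing S) : EGA4.IsNormalRing R :=
  isNormalRing_of_ringHom_faithfullyFlat e.toRingHom (.of_bijective e.bijective) h

section
open TensorProduct
variable {R S : Type*} [CommRing R] [CommRing S] [Algebra R S]
variable (A : Type*) {B D : Type*} [CommRing A] [Algebra R A] [Algebra S A]
  [IsScalarTower R S A] [CommRing B] [Algebra R B] [CommRing D] [Algebra R D]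

attribute [local instance] Algebra.TensorProduct.rightAlgebra in
/-- Faithfully flat ring maps are stable under `A ⊗[R] -` (cf. Mathlib's `RingHom.Flat.lTensor`). -/
lemma faithfullyFlat_lTensor {f : B →ₐ[R] D} (hf : f.toRingHom.FaithfullyFlat) :
    (Algebra.TensorProduct.lTensor (S := S) A f).toRingHom.FaithfullyFlat := by
  algebraize [f.toRingHom, (Algebra.TensorProduct.lTensor (S := A) A f).toRingHom]
  let e : A ⊗[R] D ≃ₐ[A ⊗[R] B] (A ⊗[R] B) ⊗[B] D :=
    { __ := (Algebra.IsPushout.cancelBaseChangeAlg _ _ _ _ _).symm,
      commutes' x := congr($(Algebra.IsPushout.cancelBaseChange_symm_comp_lTensor R B D A) x) }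
  exact Module.FaithfullyFlat.of_linearEquiv _ _ e.toLinearEquiv

end

open TensorProduct in
/-- If `C` is flat over `A` and faithfully flat over `B` (in a tower `A → B → C`), then `B` is flat over `A`. -/
theorem flat_of_flat_of_faithfullyFlat (A B C : Type u) [CommRing A] [CommRing B] [CommRing C]
    [Algebra A B] [Algebra B C] [Algebra A C] [IsScalarTower A B C] [Module.Flat A C]
    [Module.FaithfullyFlat B C] : Module.Flat A B := by
  rw [Module.Flat.iff_lTensor_preserves_injective_linearMap]
  intro N N' _ _ _ _ f hf
  let g : B ⊗[A] N →ₗ[B] B ⊗[A] N' := AlgebraTensorModule.lTensor B B f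
  have hg : ⇑g = ⇑(f.lTensor B) := rfl
  rw [← hg, ← Module.FaithfullyFlat.lTensor_injective_iff_injective B C]
  have key := AlgebraTensorModule.lTensor_comp_cancelBaseChange A B C (M := C) (N := N) (Q := N') f
  have h1 : Function.Injective (AlgebraTensorModule.lTensor C C f) :=
    Module.Flat.lTensor_preserves_injective_linearMap (M := C) f hf
  have h2 : Function.Injective
      ((AlgebraTensorModule.cancelBaseChange A B C C N').toLinearMap ∘ₗ
        AlgebraTensorModule.lTensor C C (AlgebraTensorModule.lTensor B B f)) := by
    rw [← key]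
    exact h1.comp (AlgebraTensorModule.cancelBaseChange A B C C N).injective
  exact Function.Injective.of_comp (f := (AlgebraTensorModule.cancelBaseChange A B C C N')) h2

open TensorProduct in
/-- Descent of normal homomorphisms: `A → B → C`, `C` faithfully flat over `B`, `A → C` normal ⟹ `A → B` normal. -/
theorem isNormalHom_of_faithfullyFlat (A B C : Type u) [CommRing A] [CommRing B] [CommRing C]
    [Algebra A B] [Algebra B C] [Algebra A C] [IsScalarTower A B C] [Module.FaithfullyFlat B C]
    (hAC : EGA4.IsNormalHom A C) : EGA4.IsNormalHom A B := by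
  obtain ⟨hflat, hfib⟩ := hAC
  refine ⟨flat_of_flat_of_faithfullyFlat A B C, ?_⟩
  intro p hp k' _ _ hfin
  have hBC : (IsScalarTower.toAlgHom A B C).toRingHom.FaithfullyFlat := by
    change (algebraMap B C).FaithfullyFlat
    rw [RingHom.faithfullyFlat_algebraMap_iff]
    infer_instance
  have h1 := faithfullyFlat_lTensor (S := p.ResidueField) p.ResidueField hBC
  have h2 := faithfullyFlat_lTensor (S := k') k' h1
  exact isNormalRing_of_ringHom_faithfullyFlat _ h2 (hfib p k' hfin)

end Groth.Agent.Lib.Lead
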